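import Cfsg.Agent.Classical.CrossChar
import Cfsg.Agent.Classical.Symp.Form

/-!
The Schrödinger operators of a symplectic space over a finite field of odd order, and the
projective Weil operators from Skolem-Noether.
-/

set_option autoImplicit false

namespace CfsgLib.SympWeil

open Matrix

variable {F : Type*} [Field F] {n : ℕ}

/-- Endomorphisms of complex functions on `F^n`. -/
abbrev FunOp (F : Type*) (n : ℕ) := ((Fin n → F) → ℂ) →ₗ[ℂ] ((Fin n → F) → ℂ)

/-- Left half. -/
abbrev lpart (v : Fin n ⊕ Fin n → F) : Fin n → F := fun i => v (Sum.inl i)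

/-- Right half. -/
abbrev rpart (v : Fin n ⊕ Fin n → F) : Fin n → F := fun i => v (Sum.inr i)

theorem sympForm_eq_parts (u v : Fin n ⊕ Fin n → F) :
    Cfsg.sympForm n F u v = rpart u ⬝ᵥ lpart v - lpart u ⬝ᵥ rpart v := by
  simp [Cfsg.sympForm, Matrix.J, dotProduct, Matrix.mulVec, Fintype.sum_sum_type, Matrix.one_apply,
    Finset.sum_neg_distrib, lpart, rpart]
  ring

/-- Translation times character. -/
noncomputable def wop (ψ : AddChar F ℂ) (v : Fin n ⊕ Fin n → F) : FunOp F n where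
  toFun f t := ψ (rpart v ⬝ᵥ t + 2⁻¹ * (lpart v ⬝ᵥ rpart v)) * f (t + lpart v)
  map_add' f g := by funext t; simp [mul_add]
  map_smul' c f := by funext t; simp; ring

theorem wop_apply (ψ : AddChar F ℂ) (v : Fin n ⊕ Fin n → F) (f : (Fin n → F) → ℂ) (t : Fin n → F) :
    wop ψ v f t = ψ (rpart v ⬝ᵥ t + 2⁻¹ * (lpart v ⬝ᵥ rpart v)) * f (t + lpart v) := rfl

theorem wop_zero (ψ : AddChar F ℂ) : wop ψ (0 : Fin n ⊕ Fin n → F) = 1 := by
  refine LinearMap.ext fun f => funext fun t => ?_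
  rw [wop_apply]
  have h1 : lpart (0 : Fin n ⊕ Fin n → F) = 0 := rfl
  have h2 : rpart (0 : Fin n ⊕ Fin n → F) = 0 := rfl
  simp [h1, h2]

theorem wop_mul (ψ : AddChar F ℂ) (h2 : (2 : F) ≠ 0) (u v : Fin n ⊕ Fin n → F) :
    wop ψ u * wop ψ v = ψ (-(2⁻¹ * Cfsg.sympForm n F u v)) • wop ψ (u + v) := by
  refine LinearMap.ext fun f => funext fun t => ?_
  simp only [Module.End.mul_apply, LinearMap.smul_apply, Pi.smul_apply, smul_eq_mul, wop_apply]
  have hl : lpart (u + v) = lpart u + lpart v := rfl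
  have hr : rpart (u + v) = rpart u + rpart v := rfl
  rw [hl, hr, ← mul_assoc, ← mul_assoc, ← ψ.map_add_eq_mul, ← ψ.map_add_eq_mul, add_assoc t]
  congr 2
  rw [sympForm_eq_parts]
  simp only [dotProduct_add, add_dotProduct]
  rw [dotProduct_comm (rpart u) (lpart v), dotProduct_comm (rpart v) (lpart u)]
  field_simp
  ring

/-- Parity operator. -/
def jop (F : Type*) [Field F] (n : ℕ) : FunOp F n where
  toFun f t := f (-t)
  map_add' f g := rfl
  map_smul' c f := rfl

theorem jop_apply (f : (Fin n → F) → ℂ) (t : Fin n → F) : jop F n f t = f (-t) := rfl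

theorem jop_mul_self : jop F n * jop F n = 1 :=
  LinearMap.ext fun f => funext fun t => by simp [jop_apply]

theorem jop_mul_wop (ψ : AddChar F ℂ) (v : Fin n ⊕ Fin n → F) :
    jop F n * wop ψ v = wop ψ (-v) * jop F n := by
  refine LinearMap.ext fun f => funext fun t => ?_
  simp only [Module.End.mul_apply, jop_apply, wop_apply]
  have hl : lpart (-v) = -lpart v := rfl
  have hr : rpart (-v) = -rpart v := rfl
  rw [hl, hr, neg_dotProduct, dotProduct_neg, neg_dotProduct, dotProduct_neg, neg_neg, neg_add, neg_neg]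

variable [Fintype F] [DecidableEq F]

theorem trace_jop (h2 : (2 : F) ≠ 0) : LinearMap.trace ℂ _ (jop F n) = 1 := by
  rw [LinearMap.trace_eq_matrix_trace ℂ (Pi.basisFun ℂ (Fin n → F)), Matrix.trace,
    Finset.sum_eq_single 0]
  · simp [Matrix.diag, LinearMap.toMatrix_apply, jop_apply]
  · intro t _ ht
    have hne : -t ≠ t := fun h => ht (funext fun i => by
      have h1 : (2 : F) * t i = 0 := by
        have := congrFun h i
        simp only [Pi.neg_apply] at this
        linear_combination -this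
      exact (mul_eq_zero.1 h1).resolve_left h2)
    simp [Matrix.diag, LinearMap.toMatrix_apply, jop_apply, hne]
  · simp

theorem linearIndependent_wop (ψ : AddChar F ℂ) (hψ : ∀ a : F, a ≠ 0 → ∃ x : F, ψ (a * x) ≠ 1) :
    LinearIndependent ℂ (wop ψ : (Fin n ⊕ Fin n → F) → FunOp F n) := by
  classical
  rw [Fintype.linearIndependent_iff]
  intro c hc v₀
  have key : ∀ t : Fin n → F, ∑ v, c v * wop ψ v (Pi.single (t + lpart v₀) 1) t = 0 := by
    intro t
    have := congrFun (congrArg (fun A : FunOp F n => A (Pi.single (t + lpart v₀) 1)) hc) t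
    simpa [LinearMap.sum_apply, Finset.sum_apply] using this
  have h : ∑ t : Fin n → F, ψ (-(rpart v₀ ⬝ᵥ t)) *
      ∑ v, c v * wop ψ v (Pi.single (t + lpart v₀) 1) t = 0 :=
    Finset.sum_eq_zero fun t _ => by rw [key t, mul_zero]
  simp only [Finset.mul_sum] at h
  rw [Finset.sum_comm, Finset.sum_eq_single v₀] at h
  · have h1 : ∀ t : Fin n → F, ψ (-(rpart v₀ ⬝ᵥ t)) * (c v₀ * wop ψ v₀ (Pi.single (t + lpart v₀) 1) t) =
        c v₀ * ψ (2⁻¹ * (lpart v₀ ⬝ᵥ rpart v₀)) := by
      intro t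
      rw [wop_apply, Pi.single_eq_same, mul_one, mul_left_comm, ← ψ.map_add_eq_mul, neg_add_cancel_left]
    simp only [h1, Finset.sum_const, Finset.card_univ, nsmul_eq_mul] at h
    rcases mul_eq_zero.1 h with h | h
    · exact absurd (Nat.cast_eq_zero.1 h) Fintype.card_ne_zero
    · exact (mul_eq_zero.1 h).resolve_right (ψ.val_isUnit _).ne_zero
  · intro v _ hv
    by_cases ha : lpart v = lpart v₀
    · have hb : rpart v - rpart v₀ ≠ 0 := by
        intro hb
        refine hv (funext fun i => ?_)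
        rcases i with i | i
        · exact congrFun ha i
        · exact congrFun (sub_eq_zero.1 hb) i
      have h1 : ∀ t : Fin n → F, ψ (-(rpart v₀ ⬝ᵥ t)) * (c v * wop ψ v (Pi.single (t + lpart v₀) 1) t) =
          c v * ψ (2⁻¹ * (lpart v ⬝ᵥ rpart v)) * ψ ((rpart v - rpart v₀) ⬝ᵥ t) := by
        intro t
        rw [wop_apply, ha, Pi.single_eq_same, mul_one, mul_left_comm, ← ψ.map_add_eq_mul, mul_assoc (c v),
          ← ψ.map_add_eq_mul, sub_dotProduct]
        congr 2
        ring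
      simp only [h1, ← Finset.mul_sum]
      rw [CfsgLib.CrossChar.sum_char_eq ψ hψ _ hb, mul_zero]
    · refine Finset.sum_eq_zero fun t _ => ?_
      rw [wop_apply, Pi.single_eq_of_ne (fun h => ha (add_left_cancel h)), mul_zero, mul_zero, mul_zero]
  · simp

/-- The Schrödinger operators form a basis of all operators. -/
noncomputable def wbasis (ψ : AddChar F ℂ) (hψ : ∀ a : F, a ≠ 0 → ∃ x : F, ψ (a * x) ≠ 1) :
    Module.Basis (Fin n ⊕ Fin n → F) ℂ (FunOp F n) :=
  basisOfLinearIndependentOfCardEqFinrank (linearIndependent_wop ψ hψ) (by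
    rw [Module.finrank_linearMap, Module.finrank_fintype_fun_eq_card, ← Fintype.card_prod]
    exact Fintype.card_congr (Equiv.sumArrowEquivProdArrow _ _ _))

theorem wbasis_apply (ψ : AddChar F ℂ) (hψ : ∀ a : F, a ≠ 0 → ∃ x : F, ψ (a * x) ≠ 1)
    (v : Fin n ⊕ Fin n → F) : wbasis ψ hψ v = wop ψ v := by simp [wbasis]

/-- Only scalars commute with all Schrödinger operators. -/
theorem exists_smul_of_commute (ψ : AddChar F ℂ) (hψ : ∀ a : F, a ≠ 0 → ∃ x : F, ψ (a * x) ≠ 1)
    (A : FunOp F n) (hA : ∀ v, A * wop ψ v = wop ψ v * A) : ∃ α : ℂ, A = α • 1 := by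
  have hc : A ∈ Subalgebra.center ℂ (FunOp F n) := by
    rw [Subalgebra.mem_center_iff]
    intro B
    have : LinearMap.mulRight ℂ A = LinearMap.mulLeft ℂ A :=
      (wbasis ψ hψ).ext fun v => by simpa [wbasis_apply] using (hA v).symm
    exact LinearMap.congr_fun this B
  rw [Algebra.IsCentral.center_eq_bot, Algebra.mem_bot] at hc
  obtain ⟨α, rfl⟩ := hc
  exact ⟨α, Algebra.algebraMap_eq_smul_one α⟩

/-- Skolem-Noether lift of a symplectic map. -/
theorem exists_intertwiner (ψ : AddChar F ℂ) (hψ : ∀ a : F, a ≠ 0 → ∃ x : F, ψ (a * x) ≠ 1)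
    (h2 : (2 : F) ≠ 0) (g : symplecticGroup (Fin n) F) :
    ∃ T : (FunOp F n)ˣ, ∀ v, (T : FunOp F n) * wop ψ v =
      wop ψ ((g : Matrix (Fin n ⊕ Fin n) (Fin n ⊕ Fin n) F) *ᵥ v) * (T : FunOp F n) := by
  let σ : (Fin n ⊕ Fin n → F) ≃ (Fin n ⊕ Fin n → F) := Equiv.ofBijective _
    (Finite.injective_iff_bijective.1 (CfsgLib.Classical.Symp.mulVec_injective g))
  let θ : FunOp F n ≃ₗ[ℂ] FunOp F n := (wbasis ψ hψ).equiv (wbasis ψ hψ) σ
  have hθ : ∀ v, θ (wop ψ v) = wop ψ ((g : Matrix (Fin n ⊕ Fin n) (Fin n ⊕ Fin n) F) *ᵥ v) := fun v => by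
    have h := (wbasis ψ hψ).equiv_apply v (wbasis ψ hψ) σ
    rw [wbasis_apply, wbasis_apply] at h
    exact h
  have h1 : θ 1 = 1 := by rw [← wop_zero ψ, hθ, Matrix.mulVec_zero]
  have hmul : ∀ A B, θ (A * B) = θ A * θ B := by
    have : ((LinearMap.mul ℂ (FunOp F n)).compr₂ θ.toLinearMap) =
        (LinearMap.mul ℂ (FunOp F n)).compl₁₂ θ.toLinearMap θ.toLinearMap :=
      (wbasis ψ hψ).ext fun u => (wbasis ψ hψ).ext fun v => by
        simp only [wbasis_apply, LinearMap.compr₂_apply, LinearMap.compl₁₂_apply, LinearMap.mul_apply',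
          LinearEquiv.coe_coe]
        rw [wop_mul ψ h2, map_smul, hθ, hθ, hθ, wop_mul ψ h2, Matrix.mulVec_add,
          CfsgLib.Classical.Symp.form_mulVec]
    intro A B
    exact LinearMap.congr_fun (LinearMap.congr_fun this A) B
  obtain ⟨T, hT⟩ := (AlgEquiv.ofLinearEquiv θ h1 hmul).eq_linearEquivConjAlgEquiv
  refine ⟨LinearMap.GeneralLinearGroup.ofLinearEquiv T, fun v => ?_⟩
  have h := AlgEquiv.congr_fun hT (wop ψ v)
  rw [AlgEquiv.ofLinearEquiv_apply, hθ] at h
  refine LinearMap.ext fun f => ?_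
  rw [h]
  simp

end CfsgLib.SympWeil
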