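import Mathlib

/-!
Every orbit of `GL_n(q)`, `q` odd, on nonzero symmetric matrices, acting by congruence, has at
least `(q^n - 1)/2` elements.
-/

set_option autoImplicit false

namespace CfsgLib.SympWeil

open Matrix

variable {F : Type*} [Field F]

/-- `A * M * Aᵀ` entrywise. -/
theorem congr_apply' {n : ℕ} (A M : Matrix (Fin n) (Fin n) F) (i j : Fin n) :
    (A * M * Aᵀ) i j = A i ⬝ᵥ (M *ᵥ A j) := by
  simp only [dotProduct, Matrix.mulVec, Matrix.mul_apply, Matrix.transpose_apply, Finset.sum_mul,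
    Finset.mul_sum]
  rw [Finset.sum_comm]
  simp only [mul_assoc]

/-- The congruence orbit. -/
noncomputable def congrOrbit [Fintype F] {n : ℕ} (W : Matrix (Fin n) (Fin n) F) :
    Finset (Matrix (Fin n) (Fin n) F) := by
  classical
  exact Finset.univ.filter fun M => ∃ A : Matrix (Fin n) (Fin n) F, A.det ≠ 0 ∧ A * W * Aᵀ = M

theorem mem_congrOrbit [Fintype F] {n : ℕ} {W M : Matrix (Fin n) (Fin n) F} :
    M ∈ congrOrbit W ↔ ∃ A : Matrix (Fin n) (Fin n) F, A.det ≠ 0 ∧ A * W * Aᵀ = M := by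
  simp [congrOrbit]

theorem congrOrbit_trans [Fintype F] {n : ℕ} {W M : Matrix (Fin n) (Fin n) F} (h : M ∈ congrOrbit W)
    (A : Matrix (Fin n) (Fin n) F) (hA : A.det ≠ 0) : A * M * Aᵀ ∈ congrOrbit W := by
  obtain ⟨B, hB, rfl⟩ := mem_congrOrbit.1 h
  refine mem_congrOrbit.2 ⟨A * B, ?_, ?_⟩
  · rw [Matrix.det_mul]; exact mul_ne_zero hA hB
  · simp [Matrix.transpose_mul, Matrix.mul_assoc]

theorem transpose_of_mem_congrOrbit [Fintype F] {n : ℕ} {W M : Matrix (Fin n) (Fin n) F}
    (hW : Wᵀ = W) (h : M ∈ congrOrbit W) : Mᵀ = M := by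
  obtain ⟨B, -, rfl⟩ := mem_congrOrbit.1 h
  simp [Matrix.transpose_mul, hW, Matrix.mul_assoc]

/-- An invertible matrix with a given nonzero first row. -/
theorem exists_det_row {n : ℕ} {x : Fin (n + 1) → F} (hx : x ≠ 0) :
    ∃ A : Matrix (Fin (n + 1)) (Fin (n + 1)) F, A.det ≠ 0 ∧ A 0 = x := by
  obtain ⟨k, hk⟩ := Function.ne_iff.mp hx
  refine ⟨((1 : Matrix (Fin (n + 1)) (Fin (n + 1)) F).updateRow k x).submatrix (Equiv.swap 0 k) id, ?_, ?_⟩
  · rw [Matrix.det_permute]
    refine mul_ne_zero ?_ ?_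
    · rcases Int.units_eq_one_or (Equiv.Perm.sign (Equiv.swap (0 : Fin (n + 1)) k)) with h1 | h1 <;>
        simp [h1]
    · rw [← Matrix.det_transpose, Matrix.transpose_one.symm, ← Matrix.updateCol_transpose,
        Matrix.transpose_transpose, ← Matrix.cramer_apply, Matrix.cramer_one]
      exact hk
  · ext j; simp [Matrix.submatrix_apply]

/-- `GL_n` is transitive on nonzero vectors. -/
theorem exists_det_mulVec {n : ℕ} {x y : Fin n → F} (hx : x ≠ 0) (hy : y ≠ 0) :
    ∃ G : Matrix (Fin n) (Fin n) F, G.det ≠ 0 ∧ G *ᵥ x = y := by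
  rcases n with _ | n
  · exact absurd (Subsingleton.elim x 0) hx
  obtain ⟨A, hA, hAx⟩ := exists_det_row hx
  obtain ⟨B, hB, hBy⟩ := exists_det_row hy
  have hA' : IsUnit Aᵀ.det := by rw [Matrix.det_transpose]; exact hA.isUnit
  have e : ∀ M : Matrix (Fin (n + 1)) (Fin (n + 1)) F, Mᵀ *ᵥ Pi.single 0 1 = M 0 := fun M => by
    rw [Matrix.mulVec_single_one]; rfl
  refine ⟨Bᵀ * (Aᵀ)⁻¹, ?_, ?_⟩
  · rw [Matrix.det_mul, Matrix.det_transpose, Matrix.det_nonsing_inv]
    exact mul_ne_zero hB (by simpa [Ring.inverse_eq_inv', Matrix.det_transpose] using hA)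
  · rw [← hAx, ← e A, Matrix.mulVec_mulVec, Matrix.mul_assoc, Matrix.nonsing_inv_mul _ hA', Matrix.mul_one,
      e B, hBy]

/-- In odd characteristic a nonzero symmetric matrix has no isotropic vector only if it represents
every nonzero scalar. -/
theorem exists_value_of_anisotropic [Fintype F] (h2 : (2 : F) ≠ 0) {n : ℕ}
    {W : Matrix (Fin (n + 2)) (Fin (n + 2)) F}
    (hani : ∀ x, x ≠ 0 → x ⬝ᵥ (W *ᵥ x) ≠ 0) (c : F) : ∃ x, x ⬝ᵥ (W *ᵥ x) = c := by
  classical
  set e : Fin (n + 2) → F := Pi.single 0 1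
  set f : Fin (n + 2) → F := Pi.single 1 1
  have he : e ≠ 0 := fun h => one_ne_zero (show (1 : F) = 0 by simpa [e] using congrFun h 0)
  set a := e ⬝ᵥ (W *ᵥ e)
  set b := e ⬝ᵥ (W *ᵥ f) + f ⬝ᵥ (W *ᵥ e)
  have ha : a ≠ 0 := hani e he
  set g : Fin (n + 2) → F := f - (b / (2 * a)) • e
  have hg : g ≠ 0 := fun h => one_ne_zero (show (1 : F) = 0 by
    have h1 := congrFun h 1
    simpa [g, e, f] using h1)
  have hd : g ⬝ᵥ (W *ᵥ g) ≠ 0 := hani g hg
  set d := g ⬝ᵥ (W *ᵥ g)
  have horth : e ⬝ᵥ (W *ᵥ g) + g ⬝ᵥ (W *ᵥ e) = 0 := by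
    simp only [g, Matrix.mulVec_sub, Matrix.mulVec_smul, dotProduct_sub, sub_dotProduct,
      dotProduct_smul, smul_dotProduct, smul_eq_mul]
    change e ⬝ᵥ (W *ᵥ f) - b / (2 * a) * a + (f ⬝ᵥ (W *ᵥ e) - b / (2 * a) * a) = 0
    have hb : b / (2 * a) * a + b / (2 * a) * a = b := by field_simp; ring
    linear_combination -hb
  have hQ : ∀ s t : F, (s • e + t • g) ⬝ᵥ (W *ᵥ (s • e + t • g)) = a * s ^ 2 + d * t ^ 2 := by
    intro s t
    simp only [Matrix.mulVec_add, Matrix.mulVec_smul, dotProduct_add, add_dotProduct,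
      dotProduct_smul, smul_dotProduct, smul_eq_mul]
    linear_combination (s * t) * horth
  obtain ⟨s, t, hst⟩ := FiniteField.exists_root_sum_quadratic
    (f := Polynomial.C a * Polynomial.X ^ 2) (g := Polynomial.C d * Polynomial.X ^ 2 - Polynomial.C c)
    (Polynomial.degree_C_mul_X_pow 2 ha)
    (by rw [Polynomial.degree_sub_C, Polynomial.degree_C_mul_X_pow 2 hd]
        · rfl
        · rw [Polynomial.degree_C_mul_X_pow 2 hd]; exact WithBot.coe_lt_coe.2 two_pos)
    (FiniteField.odd_card_of_char_ne_two fun h => h2 (by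
      have : CharP F 2 := h ▸ ringChar.charP F
      exact CharTwo.two_eq_zero))
  exact ⟨s • e + t • g, by simp at hst; rw [hQ]; linear_combination hst⟩


private theorem card_nonzero_sq [Fintype F] [DecidableEq F] {c : F} (hc : c ≠ 0) :
    Fintype.card F ≤ 2 * ((Finset.univ.filter (fun s : F => s ≠ 0)).image (fun s => s ^ 2 * c)).card + 1 := by
  have h1 : (Finset.univ.filter (fun s : F => s ≠ 0)).card ≤
      2 * ((Finset.univ.filter (fun s : F => s ≠ 0)).image (fun s => s ^ 2 * c)).card := by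
    refine Finset.card_le_mul_card_image _ 2 fun b hb => ?_
    obtain ⟨s, -, rfl⟩ := Finset.mem_image.mp hb
    refine (Finset.card_le_card (t := {s, -s}) fun x hx => ?_).trans Finset.card_le_two
    have hx2 : x ^ 2 = s ^ 2 := mul_right_cancel₀ hc (Finset.mem_filter.mp hx).2
    simpa using sq_eq_sq_iff_eq_or_eq_neg.mp hx2
  rw [Finset.filter_ne', Finset.card_erase_of_mem (Finset.mem_univ _), Finset.card_univ] at h1
  rw [Finset.filter_ne']
  omega

/-- Block matrix `[[1, 0], [u, G]]`. -/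
private def lowMat {n : ℕ} (u : Fin n → F) (G : Matrix (Fin n) (Fin n) F) :
    Matrix (Fin (n + 1)) (Fin (n + 1)) F :=
  Matrix.of (Fin.cons (Fin.cons 1 0) fun i => Fin.cons (u i) (G i))

private theorem det_lowMat {n : ℕ} (u : Fin n → F) (G : Matrix (Fin n) (Fin n) F) :
    (lowMat u G).det = G.det := by
  rw [Matrix.det_succ_row_zero, Finset.sum_eq_single 0]
  · have : (lowMat u G).submatrix Fin.succ (Fin.succAbove 0) = G := by
      ext i j; simp [lowMat]
    rw [this]; simp [lowMat]
  · intro j _ hj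
    obtain ⟨j, rfl⟩ := Fin.exists_succ_eq.2 hj
    simp [lowMat]
  · simp

private theorem congr_lowMat_zero {n : ℕ} (u : Fin n → F) (G : Matrix (Fin n) (Fin n) F)
    (M : Matrix (Fin (n + 1)) (Fin (n + 1)) F) : (lowMat u G * M * (lowMat u G)ᵀ) 0 0 = M 0 0 := by
  simp [congr_apply', lowMat, dotProduct, Matrix.mulVec, Fin.sum_univ_succ]

private theorem congr_lowMat_col {n : ℕ} (u : Fin n → F) (G : Matrix (Fin n) (Fin n) F)
    (M : Matrix (Fin (n + 1)) (Fin (n + 1)) F) (i : Fin n) :
    (lowMat u G * M * (lowMat u G)ᵀ) i.succ 0 = u i * M 0 0 + (G *ᵥ fun j => M j.succ 0) i := by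
  simp [congr_apply', lowMat, dotProduct, Matrix.mulVec, Fin.sum_univ_succ]

private theorem congr_lowMat_block {n : ℕ} (G : Matrix (Fin n) (Fin n) F)
    (M : Matrix (Fin (n + 1)) (Fin (n + 1)) F) :
    (lowMat 0 G * M * (lowMat 0 G)ᵀ).submatrix Fin.succ Fin.succ =
      G * M.submatrix Fin.succ Fin.succ * Gᵀ := by
  ext i j
  simp [congr_apply', lowMat, dotProduct, Matrix.mulVec, Fin.sum_univ_succ]

/-- The congruence orbit of a nonzero symmetric matrix has at least `(q^n - 1)/2` elements. -/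
theorem card_congrOrbit [Fintype F] (h2 : (2 : F) ≠ 0) : ∀ (n : ℕ) (W : Matrix (Fin n) (Fin n) F),
    Wᵀ = W → W ≠ 0 → Fintype.card F ^ n ≤ 2 * (congrOrbit W).card + 1 := by
  classical
  intro n
  induction n with
  | zero => intro W _ _; simp
  | succ n ih =>
    intro W hW hW0
    have hq1 : 2 ≤ (Fintype.card F) := Fintype.one_lt_card
    set O := congrOrbit W
    have hfam : ∀ T : Finset F, (∀ c ∈ T, c ≠ 0 ∧ ∃ x, x ⬝ᵥ (W *ᵥ x) = c) →
        T.card * (Fintype.card F) ^ n ≤ (O.filter fun M => M 0 0 ≠ 0).card := by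
      intro T hT
      have hsub : T ×ˢ (Finset.univ : Finset (Fin n → F)) ⊆
          (O.filter fun M => M 0 0 ≠ 0).image (fun M => (M 0 0, fun i : Fin n => M i.succ 0)) := by
        rintro ⟨c, v⟩ hcv
        obtain ⟨hc, x, hx⟩ := hT c (Finset.mem_product.1 hcv).1
        have hx0 : x ≠ 0 := by rintro rfl; exact hc (by simpa using hx.symm)
        obtain ⟨A, hA, hAx⟩ := exists_det_row hx0
        have hM : A * W * Aᵀ ∈ O := mem_congrOrbit.2 ⟨A, hA, rfl⟩
        have hM00 : (A * W * Aᵀ) 0 0 = c := by rw [congr_apply', hAx, hx]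
        set M := A * W * Aᵀ
        let u : Fin n → F := fun i => (v i - M i.succ 0) / c
        refine Finset.mem_image.2 ⟨lowMat u 1 * M * (lowMat u 1)ᵀ, Finset.mem_filter.2
          ⟨congrOrbit_trans hM _ (by simp [det_lowMat]), by rw [congr_lowMat_zero, hM00]; exact hc⟩, ?_⟩
        refine Prod.ext (by rw [congr_lowMat_zero, hM00]) (funext fun i => ?_)
        simp only [congr_lowMat_col, Matrix.one_mulVec, hM00, u]
        field_simp
        ring
      have h := (Finset.card_le_card hsub).trans Finset.card_image_le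
      rwa [Finset.card_product, Finset.card_univ, Fintype.card_fun, Fintype.card_fin] at h
    have hsplit : (O.filter fun M => M 0 0 = 0).card + (O.filter fun M => M 0 0 ≠ 0).card = O.card :=
      by convert Finset.card_filter_add_card_filter_not (s := O) (fun M => M 0 0 = 0) using 4
    obtain ⟨x, hx⟩ : ∃ x, x ⬝ᵥ (W *ᵥ x) ≠ 0 := by
      by_contra hc
      push Not at hc
      refine hW0 (Matrix.ext fun i j => ?_)
      have h := hc (Pi.single i 1 + Pi.single j 1)
      have hi : W i i = 0 := by simpa using hc (Pi.single i 1)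
      have hj : W j j = 0 := by simpa using hc (Pi.single j 1)
      have hs : W j i = W i j := congrFun (congrFun hW i) j
      simp [Matrix.mulVec_add, add_dotProduct, dotProduct_add, hi, hj, hs] at h
      have h' : (2 : F) * W i j = 0 := by linear_combination h
      simpa using (mul_eq_zero.1 h').resolve_left h2
    set T := (Finset.univ.filter (fun s : F => s ≠ 0)).image (fun s => s ^ 2 * (x ⬝ᵥ (W *ᵥ x)))
    have hTq : (Fintype.card F) ≤ 2 * T.card + 1 := card_nonzero_sq hx
    have hT : ∀ c ∈ T, c ≠ 0 ∧ ∃ y, y ⬝ᵥ (W *ᵥ y) = c := by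
      intro c hc
      obtain ⟨s, hs, rfl⟩ := Finset.mem_image.1 hc
      exact ⟨mul_ne_zero (pow_ne_zero _ (Finset.mem_filter.1 hs).2) hx, s • x, by
        simp [Matrix.mulVec_smul]; ring⟩
    rcases Nat.eq_zero_or_pos n with rfl | hn
    · have := hfam T hT
      rw [pow_zero, mul_one] at this
      have h1 : Fintype.card F ^ (0 + 1) = Fintype.card F := pow_one _
      omega
    obtain ⟨m, rfl⟩ : ∃ m, n = m + 1 := ⟨n - 1, by omega⟩
    by_cases hiso : ∃ y, y ≠ 0 ∧ y ⬝ᵥ (W *ᵥ y) = 0
    · obtain ⟨y, hy, hy0⟩ := hiso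
      obtain ⟨A, hA, hAy⟩ := exists_det_row hy
      have hM : A * W * Aᵀ ∈ O := mem_congrOrbit.2 ⟨A, hA, rfl⟩
      have hM00 : (A * W * Aᵀ) 0 0 = 0 := by rw [congr_apply', hAy, hy0]
      have hMs := transpose_of_mem_congrOrbit hW hM
      have hMne : A * W * Aᵀ ≠ 0 := fun h0 => hW0 (by
        have hu : IsUnit A.det := hA.isUnit
        have hu' : IsUnit Aᵀ.det := by rw [Matrix.det_transpose]; exact hu
        calc W = A⁻¹ * (A * W * Aᵀ) * Aᵀ⁻¹ := by
              simp only [← Matrix.mul_assoc, Matrix.nonsing_inv_mul _ hu, Matrix.one_mul]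
              rw [Matrix.mul_assoc, Matrix.mul_nonsing_inv _ hu', Matrix.mul_one]
          _ = 0 := by rw [h0]; simp)
      set M := A * W * Aᵀ
      have hII : (Fintype.card F) ^ (m + 1) ≤ 2 * (O.filter fun M => M 0 0 = 0).card + 1 := by
        by_cases hb : (fun i : Fin (m + 1) => M i.succ 0) = 0
        · set W' := M.submatrix Fin.succ Fin.succ
          have hW's : W'ᵀ = W' := by rw [Matrix.transpose_submatrix, hMs]
          have hW'0 : W' ≠ 0 := fun h0 => hMne (Matrix.ext fun i j => by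
            refine Fin.cases ?_ (fun i => ?_) i <;> refine Fin.cases ?_ (fun j => ?_) j
            · exact hM00
            · exact (congrFun (congrFun hMs j.succ) 0).trans (congrFun hb j)
            · exact congrFun hb i
            · exact congrFun (congrFun h0 i) j)
          refine (ih W' hW's hW'0).trans ?_
          have hsub : congrOrbit W' ⊆ (O.filter fun M => M 0 0 = 0).image (fun N => N.submatrix Fin.succ Fin.succ) := by
            intro N hN
            obtain ⟨G, hG, rfl⟩ := mem_congrOrbit.1 hN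
            refine Finset.mem_image.2 ⟨lowMat 0 G * M * (lowMat 0 G)ᵀ, Finset.mem_filter.2
              ⟨congrOrbit_trans hM _ (by rwa [det_lowMat]), by rw [congr_lowMat_zero, hM00]⟩, ?_⟩
            exact congr_lowMat_block G M
          have := (Finset.card_le_card hsub).trans Finset.card_image_le
          omega
        · have hsub : (Finset.univ.erase (0 : Fin (m + 1) → F)) ⊆
              (O.filter fun M => M 0 0 = 0).image (fun N => fun i : Fin (m + 1) => N i.succ 0) := by
            intro v hv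
            obtain ⟨G, hG, hGv⟩ := exists_det_mulVec hb (Finset.ne_of_mem_erase hv)
            refine Finset.mem_image.2 ⟨lowMat 0 G * M * (lowMat 0 G)ᵀ, Finset.mem_filter.2
              ⟨congrOrbit_trans hM _ (by rwa [det_lowMat]), by rw [congr_lowMat_zero, hM00]⟩, ?_⟩
            funext i
            rw [congr_lowMat_col, hGv]
            simp
          have h := (Finset.card_le_card hsub).trans Finset.card_image_le
          rw [Finset.card_erase_of_mem (Finset.mem_univ _), Finset.card_univ, Fintype.card_fun, Fintype.card_fin] at h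
          omega
      have hI := hfam T hT
      have hP : (Fintype.card F) * (Fintype.card F) ^ (m + 1) ≤ (2 * T.card + 1) * (Fintype.card F) ^ (m + 1) := Nat.mul_le_mul_right _ hTq
      rw [add_mul, one_mul, Nat.mul_assoc] at hP
      rw [pow_succ' (Fintype.card F) (m + 1)]
      omega
    · push Not at hiso
      have hI := hfam (Finset.univ.erase 0) fun c hc =>
        ⟨Finset.ne_of_mem_erase hc, exists_value_of_anisotropic h2 hiso c⟩
      rw [Finset.card_erase_of_mem (Finset.mem_univ _), Finset.card_univ] at hI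
      have hP : (Fintype.card F) * (Fintype.card F) ^ (m + 1) ≤ 2 * (((Fintype.card F) - 1) * (Fintype.card F) ^ (m + 1)) := by
        rw [← Nat.mul_assoc]; exact Nat.mul_le_mul_right _ (by omega)
      rw [pow_succ' (Fintype.card F) (m + 1)]
      omega

end CfsgLib.SympWeil
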