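import Cfsg.Agent.SympWeil.Schrodinger
import Cfsg.Agent.Classical.Symp.Transvection

/-!
The odd Weil representation of `Sp_2n(q)`, `q` odd, linearised by equating the determinants on
the even and on the odd functions.
-/

set_option autoImplicit false

namespace CfsgLib.SympWeil

open Matrix

variable {F : Type*} [Field F] [Fintype F] [DecidableEq F] {n : ℕ}

/-- Functions with the given parity. -/
noncomputable def parityPart (F : Type*) [Field F] (n : ℕ) (s : ℂ) : Submodule ℂ ((Fin n → F) → ℂ) :=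
  LinearMap.ker (jop F n - s • 1)

omit [Fintype F] [DecidableEq F] in
theorem mem_parityPart {s : ℂ} {f : (Fin n → F) → ℂ} : f ∈ parityPart F n s ↔ jop F n f = s • f := by
  simp [parityPart, sub_eq_zero]

theorem finrank_parityPart (h2 : (2 : F) ≠ 0) {s : ℂ} (hs : s = 1 ∨ s = -1) :
    (2 * Module.finrank ℂ (parityPart F n s) : ℂ) = (Fintype.card F : ℂ) ^ n + s := by
  have hss : s * s = 1 := by rcases hs with rfl | rfl <;> norm_num
  let e : FunOp F n := (2⁻¹ : ℂ) • (1 + s • jop F n)
  have hJ : ∀ f, jop F n (jop F n f) = f := fun f => LinearMap.congr_fun (jop_mul_self (F := F) (n := n)) f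
  have hP : LinearMap.IsProj (parityPart F n s) e := by
    constructor
    · intro f
      rw [mem_parityPart]
      simp only [e, LinearMap.smul_apply, LinearMap.add_apply, Module.End.one_apply, map_smul, map_add, hJ,
        smul_add, smul_smul]
      have : s * (2⁻¹ * s) = 2⁻¹ := by rw [mul_left_comm, hss, mul_one]
      rw [this, add_comm, mul_comm s 2⁻¹]
    · intro f hf
      rw [mem_parityPart] at hf
      simp only [e, LinearMap.smul_apply, LinearMap.add_apply, Module.End.one_apply, hf, smul_smul, hss, one_smul]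
      rw [smul_add, ← add_smul]
      norm_num
  have h := hP.trace
  simp only [e, map_smul, map_add, trace_jop h2, LinearMap.trace_one, Module.finrank_fintype_fun_eq_card,
    Fintype.card_fun, Fintype.card_fin, smul_eq_mul, mul_one, Nat.cast_pow] at h
  rw [← h]; ring

theorem finrank_parityPart_nat (h2 : (2 : F) ≠ 0) :
    2 * Module.finrank ℂ (parityPart F n 1) = Fintype.card F ^ n + 1 ∧
      2 * Module.finrank ℂ (parityPart F n (-1)) + 1 = Fintype.card F ^ n := by
  have a := finrank_parityPart (n := n) h2 (Or.inl rfl)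
  have b := finrank_parityPart (n := n) h2 (Or.inr rfl)
  constructor
  · exact_mod_cast a
  · have b' : (2 * Module.finrank ℂ (parityPart F n (-1)) + 1 : ℂ) = (Fintype.card F : ℂ) ^ n := by
      rw [b]; ring
    exact_mod_cast b'

/-- Invertible operators commuting with parity. -/
def parityUnits (F : Type*) [Field F] (n : ℕ) : Subgroup (FunOp F n)ˣ where
  carrier := {T | (T : FunOp F n) * jop F n = jop F n * (T : FunOp F n)}
  one_mem' := by simp
  mul_mem' {a b} ha hb := by
    simp only [Set.mem_ofPred_eq, Units.val_mul] at *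
    rw [mul_assoc, hb, ← mul_assoc, ha, mul_assoc]
  inv_mem' {a} ha := by
    simp only [Set.mem_ofPred_eq] at *
    rw [Units.inv_mul_eq_iff_eq_mul, ← mul_assoc, ha, Units.mul_inv_cancel_right]

omit [Fintype F] [DecidableEq F] in
theorem parityUnits_mapsTo (s : ℂ) (T : parityUnits F n) :
    ∀ f ∈ parityPart F n s, ((T : (FunOp F n)ˣ) : FunOp F n) f ∈ parityPart F n s := by
  intro f hf
  rw [mem_parityPart] at *
  have h := LinearMap.congr_fun T.2 f
  simp only [Module.End.mul_apply] at h
  rw [← h, hf, map_smul]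

/-- Restriction to a parity part. -/
noncomputable def parityHom (F : Type*) [Field F] (n : ℕ) (s : ℂ) :
    parityUnits F n →* Module.End ℂ (parityPart F n s) where
  toFun T := ((T : (FunOp F n)ˣ) : FunOp F n).restrict (parityUnits_mapsTo s T)
  map_one' := LinearMap.ext fun x => rfl
  map_mul' a b := LinearMap.ext fun x => rfl

omit [Fintype F] [DecidableEq F] in
theorem parityHom_apply (s : ℂ) (T : parityUnits F n) (x : parityPart F n s) :
    (parityHom F n s T x : (Fin n → F) → ℂ) = ((T : (FunOp F n)ˣ) : FunOp F n) x := rfl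

/-- Determinant on a parity part. -/
noncomputable def parityDet (F : Type*) [Field F] (n : ℕ) (s : ℂ) : parityUnits F n →* ℂ :=
  LinearMap.det.comp (parityHom F n s)

/-- A scalar operator. -/
noncomputable def scalarUnit (F : Type*) [Field F] (n : ℕ) (c : ℂˣ) : parityUnits F n :=
  ⟨Units.map (algebraMap ℂ (FunOp F n)).toMonoidHom c, (Algebra.commutes (c : ℂ) (jop F n))⟩

omit [Fintype F] [DecidableEq F] in
theorem parityDet_scalar (s : ℂ) (c : ℂˣ) :
    parityDet F n s (scalarUnit F n c) = (c : ℂ) ^ Module.finrank ℂ (parityPart F n s) := by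
  have h : parityHom F n s (scalarUnit F n c) = (c : ℂ) • 1 := LinearMap.ext fun x => Subtype.ext rfl
  simp only [parityDet, MonoidHom.comp_apply, h]
  rw [LinearMap.det_smul, map_one, mul_one]

omit [Fintype F] [DecidableEq F] in
theorem parityDet_ne_zero (s : ℂ) (T : parityUnits F n) : parityDet F n s T ≠ 0 :=
  ((Group.isUnit T).map (parityDet F n s)).ne_zero

section Construction

variable (ψ : AddChar F ℂ)

/-- `T` lifts the symplectic map `g`. -/
def IsLift (g : symplecticGroup (Fin n) F) (T : parityUnits F n) : Prop :=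
  (∀ v, ((T : (FunOp F n)ˣ) : FunOp F n) * wop ψ v =
      wop ψ ((g : Matrix (Fin n ⊕ Fin n) (Fin n ⊕ Fin n) F) *ᵥ v) * ((T : (FunOp F n)ˣ) : FunOp F n)) ∧
    parityDet F n 1 T = parityDet F n (-1) T

omit [Fintype F] [DecidableEq F] in
theorem isLift_one : IsLift ψ 1 (1 : parityUnits F n) := by
  refine ⟨fun v => ?_, by rw [map_one, map_one]⟩
  simp

omit [Fintype F] [DecidableEq F] in
theorem isLift_mul {g h : symplecticGroup (Fin n) F} {S T : parityUnits F n} (hS : IsLift ψ g S)
    (hT : IsLift ψ h T) : IsLift ψ (g * h) (S * T) := by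
  refine ⟨fun v => ?_, by rw [map_mul, map_mul, hS.2, hT.2]⟩
  simp only [Subgroup.coe_mul, Units.val_mul, Submonoid.coe_mul, ← Matrix.mulVec_mulVec]
  rw [mul_assoc, hT.1, ← mul_assoc, hS.1, mul_assoc]

variable (hψ : ∀ a : F, a ≠ 0 → ∃ x : F, ψ (a * x) ≠ 1) (h2 : (2 : F) ≠ 0)

include hψ h2 in
theorem existsUnique_isLift (g : symplecticGroup (Fin n) F) : ∃! T : parityUnits F n, IsLift ψ g T := by
  obtain ⟨hp, hm⟩ := finrank_parityPart_nat (n := n) h2
  obtain ⟨T₀, hT₀⟩ := exists_intertwiner ψ hψ h2 g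
  have hcomm : T₀ ∈ parityUnits F n := by
    let X : FunOp F n := (T₀ : FunOp F n) * jop F n * ((T₀⁻¹ : (FunOp F n)ˣ) : FunOp F n)
    have hinv : ∀ v, ((T₀⁻¹ : (FunOp F n)ˣ) : FunOp F n) *
        wop ψ ((g : Matrix (Fin n ⊕ Fin n) (Fin n ⊕ Fin n) F) *ᵥ v) = wop ψ v * ((T₀⁻¹ : (FunOp F n)ˣ) : FunOp F n) :=
      fun v => by rw [Units.inv_mul_eq_iff_eq_mul, ← mul_assoc, hT₀, Units.mul_inv_cancel_right]
    have hX : ∀ u, X * wop ψ u = wop ψ (-u) * X := by
      intro u
      obtain ⟨v, rfl⟩ : ∃ v, (g : Matrix (Fin n ⊕ Fin n) (Fin n ⊕ Fin n) F) *ᵥ v = u :=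
        ⟨_, CfsgLib.Classical.Symp.mulVec_inv_cancel g u⟩
      simp only [X, mul_assoc, hinv]
      rw [← mul_assoc (jop F n), jop_mul_wop, mul_assoc, ← mul_assoc (T₀ : FunOp F n), hT₀,
        Matrix.mulVec_neg, mul_assoc]
    obtain ⟨α, hα⟩ := exists_smul_of_commute ψ hψ (jop F n * X) fun u => by
      rw [mul_assoc, hX, ← mul_assoc, jop_mul_wop, neg_neg, mul_assoc]
    have hXJ : X = α • jop F n := by
      have := congrArg (fun A => jop F n * A) hα
      simp only [← mul_assoc, jop_mul_self, one_mul, mul_smul_comm, mul_one] at this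
      exact this
    have htr : LinearMap.trace ℂ _ X = 1 := by
      simp only [X]
      rw [LinearMap.trace_mul_comm, ← mul_assoc, Units.inv_mul, one_mul, trace_jop h2]
    have hα1 : α = 1 := by
      rw [hXJ, map_smul, trace_jop h2, smul_eq_mul, mul_one] at htr
      exact htr
    rw [hα1, one_smul] at hXJ
    show (T₀ : FunOp F n) * jop F n = jop F n * (T₀ : FunOp F n)
    conv_rhs => rw [← hXJ]
    simp [X, mul_assoc]
  set T : parityUnits F n := ⟨T₀, hcomm⟩
  let c : ℂˣ := Units.mk0 (parityDet F n (-1) T / parityDet F n 1 T)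
    (div_ne_zero (parityDet_ne_zero _ _) (parityDet_ne_zero _ _))
  have hdim : Module.finrank ℂ (parityPart F n 1) = Module.finrank ℂ (parityPart F n (-1)) + 1 := by omega
  refine ⟨scalarUnit F n c * T, ⟨fun v => ?_, ?_⟩, ?_⟩
  · simp only [Subgroup.coe_mul, Units.val_mul]
    rw [mul_assoc, show ((T : (FunOp F n)ˣ) : FunOp F n) * wop ψ v = _ from hT₀ v, ← mul_assoc, ← mul_assoc]
    congr 1
    exact Algebra.commutes (c : ℂ) _
  · rw [map_mul, map_mul, parityDet_scalar, parityDet_scalar, hdim, pow_succ]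
    simp only [c, Units.val_mk0]
    field_simp [parityDet_ne_zero (1 : ℂ) T]
  · intro S hS
    set L := scalarUnit F n c * T
    have hL : IsLift ψ g L := by
      refine ⟨fun v => ?_, ?_⟩
      · simp only [L, Subgroup.coe_mul, Units.val_mul]
        rw [mul_assoc, show ((T : (FunOp F n)ˣ) : FunOp F n) * wop ψ v = _ from hT₀ v, ← mul_assoc, ← mul_assoc]
        congr 1
        exact Algebra.commutes (c : ℂ) _
      · rw [map_mul, map_mul, parityDet_scalar, parityDet_scalar, hdim, pow_succ]
        simp only [c, Units.val_mk0]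
        field_simp [parityDet_ne_zero (1 : ℂ) T]
    obtain ⟨α, hα⟩ := exists_smul_of_commute ψ hψ (((L⁻¹ * S : parityUnits F n) : (FunOp F n)ˣ) : FunOp F n) (fun v => by
      simp only [Subgroup.coe_mul, Subgroup.coe_inv, Units.val_mul]
      rw [mul_assoc, hS.1, ← mul_assoc, ← mul_assoc]
      congr 1
      rw [Units.inv_mul_eq_iff_eq_mul, ← mul_assoc, hL.1, Units.mul_inv_cancel_right])
    have hα0 : α ≠ 0 := by
      rintro rfl
      rw [zero_smul] at hα
      have h1 := trace_jop (F := F) (n := n) h2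
      have h0 : (1 : FunOp F n) = 0 := by
        rw [← Units.mul_inv ((L⁻¹ * S : parityUnits F n) : (FunOp F n)ˣ), hα, zero_mul]
      rw [← one_mul (jop F n), h0, zero_mul, map_zero] at h1
      exact zero_ne_one h1
    have hsc : L⁻¹ * S = scalarUnit F n (Units.mk0 α hα0) :=
      Subtype.ext (Units.ext (hα.trans (Algebra.algebraMap_eq_smul_one α).symm))
    have hd : parityDet F n 1 (L⁻¹ * S) = parityDet F n (-1) (L⁻¹ * S) := by
      have e1 : parityDet F n 1 L * parityDet F n 1 L⁻¹ = 1 := by rw [← map_mul, mul_inv_cancel, map_one]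
      have e2 : parityDet F n (-1) L * parityDet F n (-1) L⁻¹ = 1 := by rw [← map_mul, mul_inv_cancel, map_one]
      rw [map_mul, map_mul, hS.2]
      congr 1
      rw [hL.2] at e1
      exact mul_left_cancel₀ (parityDet_ne_zero _ _) (e1.trans e2.symm)
    rw [hsc, parityDet_scalar, parityDet_scalar, hdim, pow_succ, Units.val_mk0] at hd
    have hα1 : α = 1 := (mul_eq_left₀ (pow_ne_zero _ hα0)).1 hd
    have : L⁻¹ * S = 1 := by
      rw [hsc]
      refine Subtype.ext (Units.ext ?_)
      change algebraMap ℂ (FunOp F n) α = 1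
      rw [hα1, map_one]
    exact (inv_mul_eq_one.1 this).symm

/-- The Weil representation, valued in parity-preserving operators. -/
noncomputable def weil : symplecticGroup (Fin n) F →* parityUnits F n where
  toFun g := (existsUnique_isLift ψ hψ h2 g).exists.choose
  map_one' := (existsUnique_isLift ψ hψ h2 1).unique
    (existsUnique_isLift ψ hψ h2 1).exists.choose_spec (isLift_one ψ)
  map_mul' g h := (existsUnique_isLift ψ hψ h2 (g * h)).unique
    (existsUnique_isLift ψ hψ h2 (g * h)).exists.choose_spec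
    (isLift_mul ψ (existsUnique_isLift ψ hψ h2 g).exists.choose_spec
      (existsUnique_isLift ψ hψ h2 h).exists.choose_spec)

theorem weil_spec (g : symplecticGroup (Fin n) F) : IsLift ψ g (weil ψ hψ h2 g) :=
  (existsUnique_isLift ψ hψ h2 g).exists.choose_spec

/-- The Weil operator. -/
noncomputable def weilOp (g : symplecticGroup (Fin n) F) : FunOp F n :=
  (((weil (n := n) ψ hψ h2 g) : parityUnits F n) : (FunOp F n)ˣ)

/-- An operator commuting with the Weil representation is a combination of identity and parity. -/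
theorem exists_eq_of_commute (hn : 1 ≤ n) (A : FunOp F n)
    (hA : ∀ g, A * (weilOp ψ hψ h2 g) =
      (weilOp ψ hψ h2 g) * A) :
    ∃ α β : ℂ, A = α • 1 + β • jop F n := by
  classical
  let v₁ : Fin n ⊕ Fin n → F := Pi.single (Sum.inl ⟨0, hn⟩) 1
  have hv₁ : v₁ ≠ 0 := fun h => one_ne_zero (show (1 : F) = 0 by
    simpa [v₁] using congrFun h (Sum.inl ⟨0, hn⟩))
  set S : FunOp F n := ∑ v, wop ψ v
  have key : ∀ A : FunOp F n, (∀ g, A * (weilOp ψ hψ h2 g) =
      (weilOp ψ hψ h2 g) * A) → ∃ a b : ℂ, A = a • 1 + b • S := by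
    intro A hA
    set c := (wbasis ψ hψ).repr A
    have hAc : A = ∑ v, c v • wop ψ v := by
      conv_lhs => rw [← (wbasis ψ hψ).sum_repr A]
      simp [wbasis_apply, c]
    have hinv : ∀ g : symplecticGroup (Fin n) F, ∀ v,
        c ((g : Matrix (Fin n ⊕ Fin n) (Fin n ⊕ Fin n) F) *ᵥ v) = c v := by
      intro g
      set T : (FunOp F n)ˣ := ((weil (n := n) ψ hψ h2 g : parityUnits F n) : (FunOp F n)ˣ) with hTdef
      have h := hA g
      rw [hAc, Finset.sum_mul, Finset.mul_sum] at h
      rw [show weilOp ψ hψ h2 g = (T : FunOp F n) from rfl] at h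
      simp only [smul_mul_assoc, mul_smul_comm,
        show ∀ v, (T : FunOp F n) * wop ψ v = _ from (weil_spec ψ hψ h2 g).1] at h
      simp only [← smul_mul_assoc, ← Finset.sum_mul] at h
      have h' := (Units.mul_left_inj T).1 h
      have hbij : Function.Bijective fun v => (g : Matrix (Fin n ⊕ Fin n) (Fin n ⊕ Fin n) F) *ᵥ v :=
        Finite.injective_iff_bijective.1 (CfsgLib.Classical.Symp.mulVec_injective g)
      have h'' : ∑ v, (c ((g : Matrix (Fin n ⊕ Fin n) (Fin n ⊕ Fin n) F) *ᵥ v) - c v) •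
          wop ψ ((g : Matrix (Fin n ⊕ Fin n) (Fin n ⊕ Fin n) F) *ᵥ v) = 0 := by
        refine Eq.trans (Finset.sum_congr rfl fun v _ => _root_.sub_smul (M := FunOp F n) _ _ _) ?_
        rw [Finset.sum_sub_distrib]
        rw [hbij.sum_comp (fun v => c v • wop ψ v), h', sub_self]
      intro v
      exact sub_eq_zero.1 (Fintype.linearIndependent_iff.1
        ((linearIndependent_wop ψ hψ).comp _ hbij.injective) _ h'' v)
    refine ⟨c 0 - c v₁, c v₁, ?_⟩
    rw [hAc, ← Finset.add_sum_erase _ _ (Finset.mem_univ (0 : Fin n ⊕ Fin n → F))]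
    have : ∀ v ∈ (Finset.univ : Finset (Fin n ⊕ Fin n → F)).erase 0, c v • wop ψ v = c v₁ • wop ψ v := by
      intro v hv
      obtain ⟨g, hg⟩ := CfsgLib.Classical.Symp.exists_symp_mulVec_eq hv₁ (Finset.ne_of_mem_erase hv)
      rw [← hg, hinv]
    rw [Finset.sum_congr rfl this, ← Finset.smul_sum, Finset.sum_erase_eq_sub (Finset.mem_univ _), wop_zero]
    module
  obtain ⟨a, b, hab⟩ := key A hA
  obtain ⟨a', b', hab'⟩ := key (jop F n) fun g => (weil ψ hψ h2 g).2.symm
  have hb' : b' ≠ 0 := by
    rintro rfl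
    rw [zero_smul, add_zero] at hab'
    let t : Fin n → F := Pi.single ⟨0, hn⟩ 1
    have ht : -t ≠ t := fun h => h2 (by
      have h1 := congrFun h ⟨0, hn⟩
      simp only [t, Pi.neg_apply, Pi.single_eq_same] at h1
      linear_combination -h1)
    have := congrFun (LinearMap.congr_fun hab' (Pi.single t 1)) (-t)
    simp [jop_apply, ht] at this
  refine ⟨a - b * b'⁻¹ * a', b * b'⁻¹, ?_⟩
  have hS : S = b'⁻¹ • jop F n - (b'⁻¹ * a') • (1 : FunOp F n) := by
    rw [hab', smul_add, smul_smul, smul_smul, inv_mul_cancel₀ hb', one_smul]; abel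
  rw [hab, hS]
  module

/-- The odd part of the Weil representation in coordinates is irreducible of degree `(q^n-1)/2`. -/
theorem exists_irreducible (hn : 1 ≤ n) (k : ℕ) (hk : 2 * k + 1 = Fintype.card F ^ n)
    (ψ : AddChar F ℂ) (hψ : ∀ a : F, a ≠ 0 → ∃ x : F, ψ (a * x) ≠ 1) (h2 : (2 : F) ≠ 0) :
    ∃ ρ : Representation ℂ (symplecticGroup (Fin n) F) (Fin k → ℂ), ρ.IsIrreducible := by
  classical
  obtain ⟨hp, hm⟩ := finrank_parityPart_nat (n := n) h2
  have hk' : Module.finrank ℂ (parityPart F n (-1)) = k := by omega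
  have hk0 : 1 ≤ k := by
    have h1 : Fintype.card F ≤ Fintype.card F ^ n := Nat.le_self_pow (by omega) _
    have h3 : 1 < Fintype.card F := Fintype.one_lt_card
    omega
  let e : parityPart F n (-1) ≃ₗ[ℂ] (Fin k → ℂ) := (Module.finBasisOfFinrankEq ℂ _ hk').equivFun
  let ρ : Representation ℂ (symplecticGroup (Fin n) F) (Fin k → ℂ) :=
    (e.conjAlgEquiv ℂ).toAlgHom.toMonoidHom.comp ((parityHom F n (-1)).comp (weil ψ hψ h2))
  have : Nontrivial (Subrepresentation ρ) := by
    refine ⟨⟨⊥, ⊤, fun h => ?_⟩⟩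
    have h' : (⊥ : Submodule ℂ (Fin k → ℂ)) = ⊤ := congrArg Subrepresentation.toSubmodule h
    have := congrArg (fun U : Submodule ℂ (Fin k → ℂ) => Module.finrank ℂ U) h'
    simp at this
    omega
  refine ⟨ρ, ⟨fun U => or_iff_not_imp_left.2 fun hU => ?_⟩⟩
  let T : symplecticGroup (Fin n) F → FunOp F n := fun g => weilOp ψ hψ h2 g
  have hTmul : ∀ g h, T (g * h) = T g * T h := fun g h => by simp [T, weilOp]
  have hT1 : T 1 = 1 := by simp [T, weilOp]
  let ι : (Fin k → ℂ) →ₗ[ℂ] ((Fin n → F) → ℂ) := (parityPart F n (-1)).subtype ∘ₗ e.symm.toLinearMap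
  have hι : Function.Injective ι := (parityPart F n (-1)).subtype_injective.comp e.symm.injective
  let U' := U.toSubmodule.map ι
  have hTU : ∀ g, ∀ x ∈ U', T g x ∈ U' := by
    intro g x hx
    obtain ⟨u, hu, rfl⟩ := Submodule.mem_map.1 hx
    refine Submodule.mem_map.2 ⟨ρ g u, U.apply_mem_toSubmodule g hu, ?_⟩
    simp [ρ, ι, T, weilOp, parityHom_apply]
  obtain ⟨s, hs⟩ := U'.subtype.exists_leftInverse_of_injective (Submodule.ker_subtype _)
  let π : FunOp F n := U'.subtype ∘ₗ s
  have hπU : ∀ x, π x ∈ U' := fun x => (s x).2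
  have hπfix : ∀ x ∈ U', π x = x := fun x hx => congrArg Subtype.val (LinearMap.congr_fun hs ⟨x, hx⟩)
  let m : ℂ := (Fintype.card (symplecticGroup (Fin n) F) : ℂ)
  let A : FunOp F n := m⁻¹ • ∑ g, T g * π * T g⁻¹
  have hA : ∀ h, A * T h = T h * A := by
    intro h
    simp only [A, smul_mul_assoc, mul_smul_comm, Finset.sum_mul, Finset.mul_sum]
    congr 1
    refine Fintype.sum_equiv (Equiv.mulLeft h⁻¹) _ _ fun g => ?_
    simp only [Equiv.coe_mulLeft, _root_.mul_inv_rev, inv_inv, ← mul_assoc, ← hTmul, mul_inv_cancel, hT1, one_mul]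
    simp only [mul_assoc, ← hTmul]
  obtain ⟨α, β, hAB⟩ := exists_eq_of_commute ψ hψ h2 hn A hA
  have hAU : ∀ x, A x ∈ U' := fun x => by
    simp only [A, LinearMap.smul_apply, LinearMap.sum_apply, Module.End.mul_apply]
    exact U'.smul_mem _ (U'.sum_mem fun g _ => hTU g _ (hπU _))
  have hAfix : ∀ x ∈ U', A x = x := by
    intro x hx
    simp only [A, LinearMap.smul_apply, LinearMap.sum_apply, Module.End.mul_apply]
    have : ∀ g, T g (π (T g⁻¹ x)) = x := fun g => by
      rw [hπfix _ (hTU _ _ hx), ← Module.End.mul_apply, ← hTmul, mul_inv_cancel, hT1, Module.End.one_apply]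
    simp only [this, Finset.sum_const, Finset.card_univ, ← Nat.cast_smul_eq_nsmul ℂ, smul_smul]
    rw [inv_mul_cancel₀ (Nat.cast_ne_zero.2 Fintype.card_ne_zero), one_smul]
  have hodd : ∀ x ∈ U', jop F n x = -x := by
    intro x hx
    obtain ⟨u, -, rfl⟩ := Submodule.mem_map.1 hx
    have := mem_parityPart.1 (e.symm u).2
    simpa [ι] using this
  obtain ⟨u, hu, hu0⟩ : ∃ u ∈ U.toSubmodule, u ≠ 0 := by
    by_contra hc
    push Not at hc
    exact hU (Subrepresentation.toSubmodule_injective ((Submodule.eq_bot_iff _).2 hc))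
  have hx : ι u ∈ U' := Submodule.mem_map_of_mem hu
  have hx0 : ι u ≠ 0 := fun h => hu0 (hι (h.trans (map_zero ι).symm))
  have hab : α - β = 1 := by
    have h := hAfix _ hx
    rw [hAB] at h
    simp only [LinearMap.add_apply, LinearMap.smul_apply, Module.End.one_apply, hodd _ hx, smul_neg,
      ← sub_eq_add_neg, ← sub_smul] at h
    exact smul_left_injective ℂ hx0 (h.trans (one_smul ℂ _).symm)
  have hab' : α + β = 0 := by
    obtain ⟨y, hy, hy0⟩ : ∃ y ∈ parityPart F n 1, y ≠ 0 := by
      refine (Submodule.ne_bot_iff _).1 fun h => ?_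
      rw [h, finrank_bot] at hp
      omega
    have h := hodd _ (hAU y)
    rw [hAB] at h
    rw [mem_parityPart, one_smul] at hy
    simp only [LinearMap.add_apply, LinearMap.smul_apply, Module.End.one_apply, map_add, map_smul, hy,
      ← add_smul] at h
    have h' : ((α + β) * 2) • y = 0 := by
      rw [mul_two, add_smul]
      nth_rewrite 1 [h]
      exact neg_add_cancel _
    exact (mul_eq_zero.1 ((smul_eq_zero.1 h').resolve_right hy0)).resolve_right two_ne_zero
  refine Subrepresentation.toSubmodule_injective (Submodule.eq_top_iff'.2 fun z => ?_)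
  have hz : jop F n (ι z) = -ι z := by
    have := mem_parityPart.1 (e.symm z).2
    simpa [ι] using this
  have h := hAU (ι z)
  rw [hAB] at h
  simp only [LinearMap.add_apply, LinearMap.smul_apply, Module.End.one_apply, hz, smul_neg,
    ← sub_eq_add_neg, ← sub_smul, hab, one_smul] at h
  obtain ⟨w, hw, hwz⟩ := Submodule.mem_map.1 h
  exact hι hwz ▸ hw

end Construction

end CfsgLib.SympWeil
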